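import Mathlib
import Cfsg.Agent.Lib.Linear.UnitaryCenter

/-!
# Element orders of the three-dimensional unitary group over the field with four elements
-/

set_option autoImplicit false
set_option linter.style.longLine false
set_option linter.unusedVariables false

namespace Cfsg.Lib.U34

open Matrix Cfsg.Lib.Linear.Herm

section Cert

variable {R : Type*} [CommRing R] {x t : R}

theorem pow_eq_one_z (h2 : (2 : R) = 0) (hp : (1) * t ^ 1 = 0)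
    (hc : x ^ 3 - t * x ^ 2 + t ^ 4 * x - 1 = 0) : x ^ 15 = 1 := by
  linear_combination ((1) + (1) * x ^ 3 + (1) * x ^ 6 + (1) * x ^ 9 + (1) * x ^ 12) * hc + ((-1) * x ^ 1 * t ^ 3 + (1) * x ^ 2 + (-1) * x ^ 4 * t ^ 3 + (1) * x ^ 5 + (-1) * x ^ 7 * t ^ 3 + (1) * x ^ 8 + (-1) * x ^ 10 * t ^ 3 + (1) * x ^ 11 + (-1) * x ^ 13 * t ^ 3 + (1) * x ^ 14) * hp + (0) * h2

theorem pow_eq_one_o (h2 : (2 : R) = 0) (hp : (1) + (1) * t ^ 1 = 0)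
    (hc : x ^ 3 - t * x ^ 2 + t ^ 4 * x - 1 = 0) : x ^ 4 = 1 := by
  linear_combination ((1) + (1) * x ^ 1) * hc + ((1) * x ^ 1 + (-1) * x ^ 1 * t ^ 1 + (1) * x ^ 1 * t ^ 2 + (-1) * x ^ 1 * t ^ 3 + (2) * x ^ 2 + (-1) * x ^ 2 * t ^ 1 + (1) * x ^ 2 * t ^ 2 + (-1) * x ^ 2 * t ^ 3 + (1) * x ^ 3) * hp + ((-1) * x ^ 2 + (-1) * x ^ 3) * h2

theorem pow_eq_one_w (h2 : (2 : R) = 0) (hp : (1) + (1) * t ^ 1 + (1) * t ^ 2 = 0)
    (hc : x ^ 3 - t * x ^ 2 + t ^ 4 * x - 1 = 0) : x ^ 10 = 1 := by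
  linear_combination ((1) + (1) * x ^ 1 * t ^ 1 + (1) * x ^ 2 + (1) * x ^ 5 + (1) * x ^ 6 * t ^ 1 + (1) * x ^ 7) * hc + ((1) * x ^ 1 * t ^ 1 + (-1) * x ^ 1 * t ^ 2 + (-1) * x ^ 2 + (1) * x ^ 2 * t ^ 2 + (-1) * x ^ 2 * t ^ 3 + (1) * x ^ 3 + (1) * x ^ 3 * t ^ 1 + (-1) * x ^ 3 * t ^ 2 + (1) * x ^ 6 * t ^ 1 + (-1) * x ^ 6 * t ^ 2 + (-1) * x ^ 7 + (1) * x ^ 7 * t ^ 2 + (-1) * x ^ 7 * t ^ 3 + (1) * x ^ 8 + (1) * x ^ 8 * t ^ 1 + (-1) * x ^ 8 * t ^ 2) * hp + ((1) * x ^ 2 + (1) * x ^ 2 * t ^ 1 + (-1) * x ^ 3 + (-1) * x ^ 3 * t ^ 1 + (1) * x ^ 7 + (1) * x ^ 7 * t ^ 1 + (-1) * x ^ 8 + (-1) * x ^ 8 * t ^ 1) * h2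

theorem pow_eq_one_a (h2 : (2 : R) = 0) (hp : (1) + (1) * t ^ 1 + (1) * t ^ 4 = 0)
    (hc : x ^ 3 - t * x ^ 2 + t ^ 4 * x - 1 = 0) : x ^ 15 = 1 := by
  linear_combination ((1) + (1) * x ^ 1 + (1) * x ^ 1 * t ^ 1 + (1) * x ^ 2 + (1) * x ^ 2 * t ^ 1 + (1) * x ^ 2 * t ^ 2 + (1) * x ^ 3 * t ^ 1 + (1) * x ^ 3 * t ^ 2 + (1) * x ^ 3 * t ^ 3 + (1) * x ^ 4 * t ^ 2 + (1) * x ^ 4 * t ^ 3 + (1) * x ^ 5 + (1) * x ^ 5 * t ^ 1 + (1) * x ^ 5 * t ^ 2 + (1) * x ^ 5 * t ^ 3 + (1) * x ^ 6 + (1) * x ^ 6 * t ^ 1 + (1) * x ^ 6 * t ^ 2 + (1) * x ^ 7 * t ^ 3 + (1) * x ^ 8 * t ^ 1 + (1) * x ^ 8 * t ^ 3 + (1) * x ^ 9 + (1) * x ^ 9 * t ^ 3 + (1) * x ^ 10 + (1) * x ^ 10 * t ^ 1 + (1) * x ^ 10 * t ^ 2 + (1) * x ^ 11 * t ^ 1 + (1) * x ^ 12) * hc + ((-1) * x ^ 1 + (-1) * x ^ 2 + (-1) * x ^ 2 * t ^ 1 + (-1) * x ^ 3 + (-1) * x ^ 3 * t ^ 1 + (-1) * x ^ 3 * t ^ 2 + (1) * x ^ 4 + (-1)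 * x ^ 4 * t ^ 1 + (-1) * x ^ 4 * t ^ 2 + (-1) * x ^ 4 * t ^ 3 + (2) * x ^ 5 + (-1) * x ^ 5 * t ^ 2 + (-1) * x ^ 5 * t ^ 3 + (1) * x ^ 6 + (-1) * x ^ 6 * t ^ 1 + (-1) * x ^ 6 * t ^ 2 + (-1) * x ^ 6 * t ^ 3 + (-1) * x ^ 7 * t ^ 1 + (-1) * x ^ 7 * t ^ 2 + (1) * x ^ 8 + (-1) * x ^ 8 * t ^ 3 + (2) * x ^ 9 + (-1) * x ^ 9 * t ^ 1 + (-1) * x ^ 9 * t ^ 3 + (1) * x ^ 10 + (-1) * x ^ 10 * t ^ 3 + (-1) * x ^ 11 * t ^ 1 + (-1) * x ^ 11 * t ^ 2 + (-1) * x ^ 12 * t ^ 1 + (-1) * x ^ 13) * hp + ((1) * x ^ 1 + (1) * x ^ 1 * t ^ 1 + (1) * x ^ 2 + (2) * x ^ 2 * t ^ 1 + (1) * x ^ 2 * t ^ 2 + (2) * x ^ 3 * t ^ 1 + (2) * x ^ 3 * t ^ 2 + (1) * x ^ 3 * t ^ 3 + (-1) * x ^ 4 + (2) * x ^ 4 * t ^ 2 + (2) * x ^ 4 * t ^ 3 + (-1) * x ^ 5 + (-1) * x ^ 5 * t ^ 1 + (1) * x ^ 5 * t ^ 2 + (2) * x ^ 5 * t ^ 3 + (1) * x ^ 6 * t ^ 2 + (1) * x ^ 6 * t ^ 3 + (1) * x ^ 7 * t ^ 1 + (1) * x ^ 7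 * t ^ 2 + (1) * x ^ 7 * t ^ 3 + (-1) * x ^ 8 + (1) * x ^ 8 * t ^ 3 + (-1) * x ^ 9 + (-1) * x ^ 9 * t ^ 1 + (1) * x ^ 9 * t ^ 3 + (1) * x ^ 10 * t ^ 2 + (1) * x ^ 11 * t ^ 1 + (1) * x ^ 11 * t ^ 2 + (1) * x ^ 12 * t ^ 1 + (1) * x ^ 12 * t ^ 2) * h2

theorem pow_eq_one_b (h2 : (2 : R) = 0) (hp : (1) + (1) * t ^ 3 + (1) * t ^ 4 = 0)
    (hc : x ^ 3 - t * x ^ 2 + t ^ 4 * x - 1 = 0) : x ^ 13 = 1 := by
  linear_combination ((1) + (1) * x ^ 1 + (1) * x ^ 1 * t ^ 3 + (1) * x ^ 2 * t ^ 2 + (1) * x ^ 2 * t ^ 3 + (1) * x ^ 3 * t ^ 1 + (1) * x ^ 4 + (1) * x ^ 4 * t ^ 1 + (1) * x ^ 5 * t ^ 1 + (1) * x ^ 5 * t ^ 3 + (1) * x ^ 6 * t ^ 3 + (1) * x ^ 7 + (1) * x ^ 7 * t ^ 3 + (1) * x ^ 8 + (1) * x ^ 8 * t ^ 2 + (1) * x ^ 8 * t ^ 3 + (1) * x ^ 9 * t ^ 1 + (1) * x ^ 10) * hc + ((-1) * x ^ 1 + (-1) * x ^ 2 * t ^ 1 + (1) * x ^ 2 * t ^ 2 + (-1) * x ^ 2 * t ^ 3 + (1) * x ^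 3 + (-1) * x ^ 3 * t ^ 3 + (2) * x ^ 4 + (-1) * x ^ 4 * t ^ 1 + (-1) * x ^ 5 * t ^ 1 + (2) * x ^ 6 + (-2) * x ^ 6 * t ^ 1 + (1) * x ^ 6 * t ^ 2 + (-1) * x ^ 6 * t ^ 3 + (2) * x ^ 7 + (-1) * x ^ 7 * t ^ 1 + (1) * x ^ 7 * t ^ 2 + (-1) * x ^ 7 * t ^ 3 + (1) * x ^ 8 + (-1) * x ^ 8 * t ^ 1 + (1) * x ^ 8 * t ^ 2 + (-1) * x ^ 8 * t ^ 3 + (-1) * x ^ 9 * t ^ 3 + (2) * x ^ 10 + (-1) * x ^ 10 * t ^ 1 + (-1) * x ^ 11) * hp + ((1) * x ^ 1 + (1) * x ^ 1 * t ^ 3 + (1) * x ^ 2 * t ^ 1 + (1) * x ^ 2 * t ^ 3 + (-1) * x ^ 3 + (1) * x ^ 3 * t ^ 1 + (-1) * x ^ 4 + (1) * x ^ 4 * t ^ 1 + (-1) * x ^ 4 * t ^ 3 + (1) * x ^ 5 * t ^ 1 + (-1) * x ^ 6 + (1) * x ^ 6 * t ^ 1 + (-1) * x ^ 7 + (1) * x ^ 9 * t ^ 1 + (-1) * x ^ 10 + (1) * x ^ 10 * t ^ 1 + (-1) * x ^ 10 * t ^ 3) * h2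

theorem pow_eq_one_c (h2 : (2 : R) = 0) (hp : (1) + (1) * t ^ 1 + (1) * t ^ 2 + (1) * t ^ 3 + (1) * t ^ 4 = 0)
    (hc : x ^ 3 - t * x ^ 2 + t ^ 4 * x - 1 = 0) : x ^ 10 = 1 := by
  linear_combination ((1) + (1) * x ^ 1 + (1) * x ^ 1 * t ^ 1 + (1) * x ^ 1 * t ^ 2 + (1) * x ^ 1 * t ^ 3 + (1) * x ^ 2 * t ^ 1 + (1) * x ^ 2 * t ^ 3 + (1) * x ^ 3 + (1) * x ^ 3 * t ^ 2 + (1) * x ^ 4 + (1) * x ^ 4 * t ^ 3 + (1) * x ^ 5 + (1) * x ^ 5 * t ^ 1 + (1) * x ^ 5 * t ^ 3 + (1) * x ^ 6 * t ^ 1 + (1) * x ^ 7) * hc + ((-1) * x ^ 1 + (-1) * x ^ 2 * t ^ 3 + (2) * x ^ 3 + (-1) * x ^ 3 * t ^ 1 + (1) * x ^ 3 * t ^ 2 + (-1) * x ^ 3 * t ^ 3 + (1) * x ^ 4 * t ^ 1 + (-1) * x ^ 4 * t ^ 2 + (-1) * x ^ 5 + (1) * x ^ 5 * t ^ 2 + (-1) * x ^ 5 * t ^ 3 + (1) * x ^ 6 + (-1) * x ^ 6 * t ^ 1 + (1) * x ^ 6 * t ^ 2 + (-1) * x ^ 6 * t ^ 3 + (2) * x ^ 7 + (-1) * x ^ 7 * t ^ 1 + (-1) * x ^ 8)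 * hp + ((1) * x ^ 1 + (1) * x ^ 1 * t ^ 1 + (1) * x ^ 1 * t ^ 2 + (1) * x ^ 1 * t ^ 3 + (1) * x ^ 2 * t ^ 1 + (1) * x ^ 2 * t ^ 3 + (-1) * x ^ 3 + (-1) * x ^ 4 * t ^ 1 + (1) * x ^ 5 + (1) * x ^ 5 * t ^ 1 + (1) * x ^ 5 * t ^ 3 + (-1) * x ^ 6 + (1) * x ^ 6 * t ^ 1 + (-1) * x ^ 6 * t ^ 2 + (-1) * x ^ 7 + (-1) * x ^ 7 * t ^ 3 + (1) * x ^ 8 * t ^ 2) * h2

end Cert

variable {F : Type*} [Field F] [Fintype F]

theorem two_eq_zero (hF : Fintype.card F = 16) : (2 : F) = 0 := by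
  have h := Nat.cast_card_eq_zero F
  rw [hF, show (16 : ℕ) = 2 ^ 4 from rfl, Nat.cast_pow] at h
  exact_mod_cast eq_zero_of_pow_eq_zero h

theorem trace_cases (hF : Fintype.card F = 16) (t : F) :
    t = 0 ∨ t + 1 = 0 ∨ t ^ 2 + t + 1 = 0 ∨ t ^ 4 + t + 1 = 0 ∨ t ^ 4 + t ^ 3 + 1 = 0 ∨
      t ^ 4 + t ^ 3 + t ^ 2 + t + 1 = 0 := by
  have h2 := two_eq_zero hF
  have h := FiniteField.pow_card t
  rw [hF] at h
  have key : t * (t + 1) * (t ^ 2 + t + 1) * (t ^ 4 + t + 1) * (t ^ 4 + t ^ 3 + 1) *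
      (t ^ 4 + t ^ 3 + t ^ 2 + t + 1) = 0 := by
    linear_combination h - ((-1) * t ^ 1 + (-2) * t ^ 2 + (-4) * t ^ 3 + (-6) * t ^ 4 + (-9) * t ^ 5 + (-13) * t ^ 6 + (-16) * t ^ 7 + (-17) * t ^ 8 + (-17) * t ^ 9 + (-16) * t ^ 10 + (-13) * t ^ 11 + (-9) * t ^ 12 + (-6) * t ^ 13 + (-4) * t ^ 14 + (-2) * t ^ 15) * h2
  simpa only [mul_eq_zero, or_assoc] using key

theorem cayley_three {R : Type*} [CommRing R] (A : Matrix (Fin 3) (Fin 3) R) :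
    A ^ 3 - A.trace • A ^ 2 + A.adjugate.trace • A - A.det • 1 = 0 := by
  ext i j
  simp only [pow_succ, pow_zero, Matrix.one_mul, Matrix.sub_apply, Matrix.add_apply,
    Matrix.smul_apply, Matrix.mul_apply, Matrix.adjugate_fin_three, Matrix.det_fin_three,
    Matrix.trace_fin_three, Fin.sum_univ_three, Matrix.zero_apply, smul_eq_mul, Matrix.of_apply,
    Matrix.cons_val', Matrix.cons_val_zero, Matrix.cons_val_one, Matrix.cons_val, Matrix.empty_val',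
    Matrix.cons_val_fin_one]
  fin_cases i <;> fin_cases j <;> simp <;> ring

/-- The underlying matrix of an element of the unitary group. -/
def smat (g : Cfsg.SU 3 F 4) : Matrix (Fin 3) (Fin 3) F := (g.1 : Matrix.SpecialLinearGroup (Fin 3) F).1

theorem adjugate_trace (hF : Fintype.card F = 16) (g : Cfsg.SU 3 F 4) :
    (smat g).adjugate.trace = (smat g).trace ^ 4 := by
  have hF2 : Fintype.card F = 4 ^ 2 := hF
  set A := smat g with hA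
  have hdet : A.det = 1 := g.1.2
  have h1 : Aᵀ * A.map (· ^ 4) = 1 := by
    ext i j
    have h := g.2 (Pi.single i 1) (Pi.single j 1)
    simp only [Cfsg.hermForm] at h
    rw [Matrix.mul_apply, Matrix.one_apply]
    refine (Eq.trans ?_ h).trans ?_
    · refine Finset.sum_congr rfl fun k _ => ?_
      simp [hA, smat, Cfsg.slToMat]
    · rw [Fin.sum_univ_three]
      fin_cases i <;> fin_cases j <;> simp
  have h2 : (A.map (· ^ 4))ᵀ * A = 1 := by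
    have h := congrArg Matrix.transpose h1
    rwa [Matrix.transpose_mul, Matrix.transpose_one, Matrix.transpose_transpose] at h
  have h3 : A.adjugate = (A.map (· ^ 4))ᵀ := by
    calc A.adjugate = (A.map (· ^ 4))ᵀ * (A * A.adjugate) := by rw [← mul_assoc, h2, one_mul]
      _ = _ := by rw [Matrix.mul_adjugate, hdet, one_smul, mul_one]
  rw [h3, Matrix.trace_transpose, ← frob_apply hF2]
  simp only [Matrix.trace, map_sum, Matrix.diag_apply]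
  simp [frob_apply hF2]

theorem pow_eq_one_mem (hF : Fintype.card F = 16) (g : Cfsg.SU 3 F 4) :
    ∃ n ∈ [4, 10, 13, 15], g ^ n = 1 := by
  set A := smat g with hA
  have hdet : A.det = 1 := g.1.2
  have hc := cayley_three A
  rw [hdet, adjugate_trace hF, one_smul, ← hA] at hc
  set t := A.trace with ht
  let R := Algebra.adjoin F ({A} : Set (Matrix (Fin 3) (Fin 3) F))
  letI : CommRing R := Algebra.adjoinCommRingOfComm F (by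
    intro a ha b hb
    rw [Set.mem_singleton_iff] at ha hb
    rw [ha, hb])
  let x : R := ⟨A, Algebra.subset_adjoin rfl⟩
  let c : R := algebraMap F R t
  have h2 : (2 : R) = 0 := by
    have h := congrArg (algebraMap F R) (two_eq_zero hF)
    rwa [map_ofNat, map_zero] at h
  have hcR : x ^ 3 - c * x ^ 2 + c ^ 4 * x - 1 = 0 := by
    apply Subtype.ext
    simp [x, c, ← map_pow, ← Algebra.smul_def, hc]
  have fin : ∀ n, x ^ n = 1 → g ^ n = 1 := fun n h => by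
    have h' := congrArg Subtype.val h
    apply Subtype.ext
    apply Subtype.ext
    simpa [x, hA, smat] using h'
  rcases trace_cases hF t with h | h | h | h | h | h
  all_goals have hp := congrArg (algebraMap F R) h; simp only [map_add, map_pow, map_one, map_zero] at hp
  · exact ⟨15, by simp, fin _ (pow_eq_one_z h2 (by linear_combination hp) hcR)⟩
  · exact ⟨4, by simp, fin _ (pow_eq_one_o h2 (by linear_combination hp) hcR)⟩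
  · exact ⟨10, by simp, fin _ (pow_eq_one_w h2 (by linear_combination hp) hcR)⟩
  · exact ⟨15, by simp, fin _ (pow_eq_one_a h2 (by linear_combination hp) hcR)⟩
  · exact ⟨13, by simp, fin _ (pow_eq_one_b h2 (by linear_combination hp) hcR)⟩
  · exact ⟨10, by simp, fin _ (pow_eq_one_c h2 (by linear_combination hp) hcR)⟩

theorem exists_theta (hF : Fintype.card F = 16) : ∃ θ : F, θ ^ 4 + θ + 1 = 0 := by
  classical
  by_contra hc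
  push Not at hc
  let P : Polynomial F := Polynomial.X * (Polynomial.X + 1) * (Polynomial.X ^ 2 + Polynomial.X + 1) *
    (Polynomial.X ^ 4 + Polynomial.X ^ 3 + 1) *
    (Polynomial.X ^ 4 + Polynomial.X ^ 3 + Polynomial.X ^ 2 + Polynomial.X + 1)
  have hdeg : P.natDegree = 12 := by unfold P; compute_degree!
  have hP : P ≠ 0 := fun h => by simp [h] at hdeg
  have hroot : ∀ t : F, t ∈ P.roots.toFinset := by
    intro t
    rw [Multiset.mem_toFinset, Polynomial.mem_roots hP, Polynomial.IsRoot]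
    rcases trace_cases hF t with h | h | h | h | h | h
    all_goals first
      | exact absurd h (hc t)
      | (simp only [P, Polynomial.eval_mul, Polynomial.eval_add, Polynomial.eval_pow, Polynomial.eval_X,
          Polynomial.eval_one, mul_eq_zero, or_assoc]; tauto)
  have h1 : (Finset.univ : Finset F).card ≤ P.roots.toFinset.card :=
    Finset.card_le_card fun t _ => hroot t
  have h2 := (Multiset.toFinset_card_le P.roots).trans P.card_roots'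
  rw [Finset.card_univ, hF] at h1
  omega

theorem exists_su (hF : Fintype.card F = 16) (M : Matrix (Fin 3) (Fin 3) F) (hdet : M.det = 1)
    (hM : Mᵀ * M.map (· ^ 4) = 1) : ∃ g : Cfsg.SU 3 F 4, smat g = M := by
  have hF2 : Fintype.card F = 4 ^ 2 := hF
  refine ⟨⟨⟨M, hdet⟩, fun u v => ?_⟩, rfl⟩
  have hf : ∀ w : Fin 3 → F, Cfsg.hermForm 3 F 4 u w = u ⬝ᵥ fun i => w i ^ 4 := fun w => rfl
  show (M *ᵥ u) ⬝ᵥ (fun i => (M *ᵥ v) i ^ 4) = u ⬝ᵥ fun i => v i ^ 4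
  have h : (fun i => (M *ᵥ v) i ^ 4) = M.map (· ^ 4) *ᵥ fun i => v i ^ 4 := by
    funext i
    simp only [← frob_apply hF2, Matrix.mulVec, dotProduct, map_sum, map_mul, Matrix.map_apply]
  rw [h, dotProduct_comm, Matrix.dotProduct_mulVec, ← Matrix.mulVec_transpose, Matrix.mulVec_mulVec,
    hM, Matrix.one_mulVec, dotProduct_comm]

theorem smat_pow (g : Cfsg.SU 3 F 4) (n : ℕ) : smat (g ^ n) = smat g ^ n := by simp [smat]

theorem smat_eq_one_iff (g : Cfsg.SU 3 F 4) : smat g = 1 ↔ g = 1 :=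
  ⟨fun h => Subtype.ext (Subtype.ext h), fun h => by simp [h, smat]⟩

theorem orderOf_of_checks {G : Type*} [Group G] {g : G} {p q : ℕ} (hp : p.Prime) (hq : q.Prime)
    (h : g ^ (p * q) = 1) (hgp : g ^ p ≠ 1) (hgq : g ^ q ≠ 1) : orderOf g = p * q := by
  obtain ⟨a, b, ha, hb, hab⟩ := Nat.dvd_mul.mp (orderOf_dvd_of_pow_eq_one h)
  rcases (Nat.dvd_prime hp).mp ha with rfl | rfl
  · exact absurd (orderOf_dvd_iff_pow_eq_one.mp (by rw [← hab, one_mul]; exact hb)) hgq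
  rcases (Nat.dvd_prime hq).mp hb with rfl | rfl
  · exact absurd (orderOf_dvd_iff_pow_eq_one.mp (by rw [← hab, mul_one])) hgp
  exact hab.symm

theorem exists_order_ten (hF : Fintype.card F = 16) : ∃ g : Cfsg.SU 3 F 4, orderOf g = 2 * 5 := by
  obtain ⟨θ, hθ⟩ := exists_theta hF
  have h2 := two_eq_zero hF
  have e4 : θ ^ 4 = θ + 1 := by linear_combination hθ - (θ + 1) * h2
  have e15 : θ ^ 15 = 1 := by grind
  obtain ⟨g, hg⟩ := exists_su hF !![0, θ ^ 3, 0; θ ^ 3, 0, 0; 0, 0, θ ^ 9] (by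
    simp [Matrix.det_fin_three]; grind) (by
    ext i j
    fin_cases i <;> fin_cases j <;> simp [Matrix.mul_apply, Fin.sum_univ_three] <;> grind)
  refine ⟨g, orderOf_of_checks Nat.prime_two Nat.prime_five ?_ ?_ ?_⟩
  · rw [← smat_eq_one_iff, smat_pow, hg]
    ext i j
    fin_cases i <;> fin_cases j <;> simp [pow_succ, Matrix.mul_apply, Fin.sum_univ_three] <;> grind
  · rw [Ne, ← smat_eq_one_iff, smat_pow, hg]
    intro h
    have h0 := congrFun (congrFun h 0) 0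
    simp [pow_succ, Matrix.mul_apply, Fin.sum_univ_three] at h0
    grind
  · rw [Ne, ← smat_eq_one_iff, smat_pow, hg]
    intro h
    have h0 := congrFun (congrFun h 0) 1
    simp [pow_succ, Matrix.mul_apply, Fin.sum_univ_three] at h0
    grind

theorem exists_order_fifteen (hF : Fintype.card F = 16) :
    ∃ g : Cfsg.SU 3 F 4, orderOf g = 3 * 5 := by
  obtain ⟨θ, hθ⟩ := exists_theta hF
  have h2 := two_eq_zero hF
  have e4 : θ ^ 4 = θ + 1 := by linear_combination hθ - (θ + 1) * h2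
  have e15 : θ ^ 15 = 1 := by grind
  obtain ⟨g, hg⟩ := exists_su hF !![θ ^ 4, θ ^ 5, 0; θ ^ 11, θ ^ 7, 0; 0, 0, θ ^ 9] (by
    simp [Matrix.det_fin_three]; grind) (by
    ext i j
    fin_cases i <;> fin_cases j <;> simp [Matrix.mul_apply, Fin.sum_univ_three] <;> grind)
  have d3 : smat g ^ 3 = Matrix.diagonal ![θ ^ 9, θ ^ 9, θ ^ 12] := by
    rw [hg, show ∀ M : Matrix (Fin 3) (Fin 3) F, M ^ 3 = M * M * M from fun M => by
      rw [pow_succ, pow_two]]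
    ext i j
    fin_cases i <;> fin_cases j <;> simp [Matrix.mul_apply, Fin.sum_univ_three] <;> grind
  refine ⟨g, orderOf_of_checks Nat.prime_three Nat.prime_five ?_ ?_ ?_⟩
  · rw [← smat_eq_one_iff, smat_pow, pow_mul, d3, Matrix.diagonal_pow, ← Matrix.diagonal_one]
    congr 1
    funext i
    fin_cases i <;> simp <;> grind
  · rw [Ne, ← smat_eq_one_iff, smat_pow, d3]
    intro h
    have h0 := congrFun (congrFun h 2) 2
    simp at h0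
    grind
  · rw [Ne, ← smat_eq_one_iff, smat_pow, show (5 : ℕ) = 3 + 1 + 1 from rfl, pow_succ, pow_succ, d3,
      hg]
    intro h
    have h0 := congrFun (congrFun h 0) 1
    simp [Matrix.mul_apply, Fin.sum_univ_three] at h0
    grind

/-- The unitary group is its own projective group. -/
noncomputable def psuEquiv (hF : Fintype.card F = 16) : Cfsg.SU 3 F 4 ≃* Cfsg.PSU 3 F 4 :=
  MulEquiv.ofBijective (QuotientGroup.mk' (Subgroup.center (Cfsg.SU 3 F 4))) ⟨by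
    have h : Nat.card (Subgroup.center (Cfsg.SU 3 F 4)) = 1 := by
      rw [card_center_SU (q := 4) hF (by norm_num)]; norm_num
    rw [← MonoidHom.ker_eq_bot_iff, QuotientGroup.ker_mk']
    exact Subgroup.card_eq_one.mp h, QuotientGroup.mk'_surjective _⟩

theorem card_PSU (hF : Fintype.card F = 16) : Nat.card (Cfsg.PSU 3 F 4) = 62400 := by
  rw [← Nat.card_congr (psuEquiv hF).toEquiv]
  have h := card_SU (q := 4) hF (n := 3) (by norm_num)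
  rw [card_GU (q := 4) hF 3] at h
  norm_num [Finset.prod_range_succ, Nat.even_iff] at h
  omega

/-- The elements of order a product of two primes. -/
theorem exists_orderOf_iff (hF : Fintype.card F = 16) {p q : ℕ} (hp : p.Prime) (hq : q.Prime)
    (hpq : p ≠ q) : (∃ g : Cfsg.PSU 3 F 4, orderOf g = p * q) ↔ p * q = 10 ∨ p * q = 15 := by
  constructor
  · rintro ⟨g, hg⟩
    obtain ⟨h, rfl⟩ := (psuEquiv hF).surjective g
    rw [MulEquiv.orderOf_eq] at hg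
    obtain ⟨n, hn, hn'⟩ := pow_eq_one_mem hF h
    have hd : p * q ∣ n := hg ▸ orderOf_dvd_of_pow_eq_one hn'
    have hp' : p ∣ n := dvd_of_mul_right_dvd hd
    have hq' : q ∣ n := dvd_of_mul_left_dvd hd
    have hle : n ≠ 0 := by fin_cases hn <;> decide
    have := Nat.le_of_dvd (Nat.pos_of_ne_zero hle) hp'
    have := Nat.le_of_dvd (Nat.pos_of_ne_zero hle) hq'
    have := hp.two_le
    have := hq.two_le
    fin_cases hn <;> interval_cases p <;> interval_cases q <;> simp_all (config := { decide := true })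
  · intro h
    have e : ∀ m, (∃ g : Cfsg.SU 3 F 4, orderOf g = m) → p * q = m →
        ∃ g : Cfsg.PSU 3 F 4, orderOf g = p * q := fun m ⟨g, hg⟩ he =>
      ⟨psuEquiv hF g, by rw [MulEquiv.orderOf_eq, hg, he]⟩
    rcases h with h | h
    · exact e _ (exists_order_ten hF) h
    · exact e _ (exists_order_fifteen hF) h

end Cfsg.Lib.U34
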