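import Mathlib

/-!
# Packed matrices over the integers modulo 5, for kernel computations

A row is one natural number with digits in base `2 ^ 16`; a matrix is the list of its rows.
-/

set_option autoImplicit false

namespace Cfsg.Lib.U34

/-- Pack digits. -/
def pack {k : ℕ} (v : Fin k → ℕ) : ℕ :=
  (List.ofFn v).foldr (fun a r => Nat.add a (Nat.mul 65536 r)) 0

/-- The mask selecting the low six bits of each of twelve digits. -/
def qmask : ℕ := pack fun _ : Fin 12 => 63

/-- Reduce each of twelve small digits modulo 5. -/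
def red (n : ℕ) : ℕ :=
  Nat.sub n (Nat.mul 5 (Nat.land (Nat.shiftRight (Nat.mul n 205) 10) qmask))

/-- A combination of packed rows with coefficients the digits of the first argument. -/
def combAux (N : List ℕ) : ℕ → ℕ :=
  List.rec (fun _ => 0)
    (fun r _ ih a => Nat.add (Nat.mul (Nat.land a 65535) r) (ih (Nat.shiftRight a 16))) N

/-- The product of packed matrices. -/
def mul (M N : List ℕ) : List ℕ := M.map fun a => red (combAux N a)

theorem pack_zero (v : Fin 0 → ℕ) : pack v = 0 := rfl

theorem pack_succ {k : ℕ} (v : Fin (k + 1) → ℕ) :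
    pack v = v 0 + 65536 * pack fun j => v j.succ := by
  simp [pack, List.ofFn_succ]

theorem pack_eq_sum : ∀ {k : ℕ} (v : Fin k → ℕ), pack v = ∑ j : Fin k, v j * 65536 ^ (j : ℕ)
  | 0, v => rfl
  | k + 1, v => by
      rw [pack_succ, pack_eq_sum, Fin.sum_univ_succ, Finset.mul_sum]
      simp only [Fin.val_zero, pow_zero, mul_one, Fin.val_succ, pow_succ]
      congr 1
      exact Finset.sum_congr rfl fun j _ => by ring

theorem sum_mul_pack {m k : ℕ} (c : Fin m → ℕ) (w : Fin m → Fin k → ℕ) :
    ∑ i, c i * pack (w i) = pack fun j => ∑ i, c i * w i j := by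
  simp only [pack_eq_sum, Finset.mul_sum, Finset.sum_mul, mul_assoc]
  exact Finset.sum_comm

theorem combAux_ofFn : ∀ {m : ℕ} (c r : Fin m → ℕ), (∀ i, c i < 65536) →
    combAux (List.ofFn r) (pack c) = ∑ i, c i * r i
  | 0, c, r, _ => rfl
  | m + 1, c, r, hc => by
      have h1 : Nat.land (pack c) 65535 = c 0 := by
        show pack c &&& (2 ^ 16 - 1) = c 0
        rw [Nat.and_two_pow_sub_one_eq_mod, pack_succ]
        have := hc 0
        omega
      have h2 : Nat.shiftRight (pack c) 16 = pack fun j => c j.succ := by
        show pack c >>> 16 = _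
        rw [Nat.shiftRight_eq_div_pow, pack_succ]
        have := hc 0
        omega
      rw [List.ofFn_succ, Fin.sum_univ_succ]
      show Nat.add (Nat.mul (Nat.land (pack c) 65535) (r 0))
        (combAux (List.ofFn fun i => r i.succ) (Nat.shiftRight (pack c) 16)) = _
      rw [h1, h2, combAux_ofFn _ _ fun i => hc i.succ]
      rfl

theorem and_mask_succ (x m : ℕ) :
    x &&& (63 + 65536 * m) = (x % 65536 &&& 63) + 65536 * (x / 65536 &&& m) := by
  have h1 : (x &&& (63 + 65536 * m)) % 2 ^ 16 = x % 2 ^ 16 &&& (63 + 65536 * m) % 2 ^ 16 :=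
    Nat.and_mod_two_pow ..
  have h2 : (x &&& (63 + 65536 * m)) / 2 ^ 16 = x / 2 ^ 16 &&& (63 + 65536 * m) / 2 ^ 16 :=
    Nat.and_div_two_pow ..
  have e1 : (63 + 65536 * m) % 2 ^ 16 = 63 := by omega
  have e2 : (63 + 65536 * m) / 2 ^ 16 = m := by omega
  rw [e1] at h1
  rw [e2] at h2
  norm_num at h1 h2 ⊢
  omega

theorem quot_pack : ∀ {k : ℕ} (w : Fin k → ℕ), (∀ j, w j < 320) →
    (pack w * 205) >>> 10 &&& pack (fun _ : Fin k => 63) = pack fun j => w j / 5
  | 0, w, _ => by simp [pack_zero]
  | k + 1, w, hw => by
      have ih := quot_pack (fun j => w j.succ) fun j => hw _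
      rw [pack_succ (fun _ : Fin (k + 1) => 63), and_mask_succ]
      rw [pack_succ w, pack_succ (fun j => w j / 5)]
      set P := pack fun j : Fin k => w j.succ with hP
      have h0 := hw 0
      rw [Nat.shiftRight_eq_div_pow] at ih ⊢
      have e1 : (w 0 + 65536 * P) * 205 / 2 ^ 10 = w 0 / 5 + 64 * (P * 205) := by omega
      have e2 : (w 0 / 5 + 64 * (P * 205)) / 65536 = P * 205 / 2 ^ 10 := by omega
      have e3 : (w 0 / 5 + 64 * (P * 205)) % 65536 &&& 63 = w 0 / 5 := by
        rw [show (63 : ℕ) = 2 ^ 6 - 1 from rfl, Nat.and_two_pow_sub_one_eq_mod]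
        omega
      rw [e1, e2, e3, ih]

theorem pack_sub : ∀ {k : ℕ} (w : Fin k → ℕ),
    pack w = pack (fun j => w j % 5) + 5 * pack (fun j => w j / 5)
  | 0, w => rfl
  | k + 1, w => by
      rw [pack_succ, pack_succ (fun j => w j % 5), pack_succ (fun j => w j / 5)]
      have := pack_sub fun j => w j.succ
      have := Nat.mod_add_div (w 0) 5
      omega

theorem red_pack (w : Fin 12 → ℕ) (hw : ∀ j, w j < 320) : red (pack w) = pack fun j => w j % 5 := by
  show pack w - 5 * ((pack w * 205) >>> 10 &&& pack (fun _ : Fin 12 => 63)) = _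
  rw [quot_pack w hw, pack_sub w]
  omega

theorem pack_injective : ∀ {k : ℕ} {v w : Fin k → ℕ}, (∀ j, v j < 65536) → (∀ j, w j < 65536) →
    pack v = pack w → v = w
  | 0, v, w, _, _, _ => funext fun j => j.elim0
  | k + 1, v, w, hv, hw, h => by
      rw [pack_succ, pack_succ] at h
      have := hv 0
      have := hw 0
      have h0 : v 0 = w 0 := by omega
      have h1 := pack_injective (fun j => hv j.succ) (fun j => hw j.succ)
        (show pack (fun j => v j.succ) = pack (fun j => w j.succ) by omega)
      funext j
      refine Fin.cases h0 (fun i => congrFun h1 i) j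

/-- A twelve by twelve matrix over the integers modulo 5. -/
abbrev M12 := Matrix (Fin 12) (Fin 12) (ZMod 5)

/-- The packed form of a matrix. -/
def encM (A : M12) : List ℕ := List.ofFn fun i => pack fun j => (A i j).val

theorem encM_injective : Function.Injective encM := by
  intro A B h
  have hb : ∀ (x : ZMod 5), x.val < 65536 := fun x => (ZMod.val_lt x).trans (by norm_num)
  ext i j
  have h1 := pack_injective (fun _ => hb _) (fun _ => hb _) (congrFun (List.ofFn_injective h) i)
  exact ZMod.val_injective 5 (congrFun h1 j)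

attribute [local irreducible] combAux pack in
theorem encM_mul (A B : M12) : encM (A * B) = mul (encM A) (encM B) := by
  have hlt : ∀ x : ZMod 5, x.val < 5 := ZMod.val_lt
  simp only [mul, encM, List.map_ofFn]
  congr 1
  funext i
  simp only [Function.comp_apply]
  rw [combAux_ofFn _ _ (fun k => (hlt _).trans (by norm_num)), sum_mul_pack, red_pack]
  · congr 1
    funext j
    rw [← ZMod.val_natCast, Matrix.mul_apply]
    congr 1
    simp
  · intro j
    calc ∑ k, (A i k).val * (B k j).val ≤ ∑ _k : Fin 12, 16 := Finset.sum_le_sum fun k _ => by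
          have := hlt (A i k); have := hlt (B k j); nlinarith
      _ < 320 := by simp

/-- The packed identity. -/
def one : List ℕ := List.ofFn fun i : Fin 12 => Nat.shiftLeft 1 (Nat.mul 16 i)

theorem encM_one : encM 1 = one := by decide +kernel

/-- Boolean equality of packed matrices. -/
def beq (M N : List ℕ) : Bool :=
  List.rec (fun K => K.isEmpty)
    (fun a _ ih K => match K with
      | [] => false
      | b :: K' => Nat.beq a b && ih K') M N

theorem beq_iff : ∀ {M N : List ℕ}, beq M N = true ↔ M = N
  | [], [] => by simp [beq]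
  | [], _ :: _ => by simp [beq]
  | _ :: _, [] => by simp [beq]
  | a :: M, b :: N => by
      show (Nat.beq a b && beq M N) = true ↔ _
      rw [Bool.and_eq_true, beq_iff]
      simp

/-- Powers of packed matrices. -/
def pw (M : List ℕ) : ℕ → List ℕ := Nat.rec one fun _ N => mul N M

theorem encM_pow (A : M12) : ∀ n, encM (A ^ n) = pw (encM A) n
  | 0 => by rw [pow_zero, encM_one]; rfl
  | n + 1 => by
      rw [pow_succ, encM_mul, encM_pow A n]
      rfl

/-- Entrywise unreduced sums of packed matrices. -/
def addU (M N : List ℕ) : List ℕ := List.zipWith Nat.add M N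

/-- The unreduced sum of the first powers. -/
def nsum (M : List ℕ) : ℕ → List ℕ :=
  Nat.rec (List.replicate 12 0) fun k N => addU N (pw M k)

theorem nsum_encM (A : M12) : ∀ n, nsum (encM A) n =
    List.ofFn fun i => pack fun j => ∑ l ∈ Finset.range n, ((A ^ l) i j).val
  | 0 => by
      apply List.ext_getElem
      · simp [nsum]
      · intro i h1 h2
        simp only [Finset.range_zero, Finset.sum_empty, List.getElem_ofFn, pack_eq_sum, zero_mul,
          Finset.sum_const_zero]
        exact List.eq_of_mem_replicate (n := 12) (List.getElem_mem h1)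
  | n + 1 => by
      show addU (nsum (encM A) n) (pw (encM A) n) = _
      rw [nsum_encM A n, ← encM_pow]
      apply List.ext_getElem
      · simp [addU, encM]
      · intro i h1 h2
        simp [addU, encM, pack_eq_sum, Finset.sum_range_succ, add_mul, Finset.sum_add_distrib]

/-- The sum of the first thirteen powers vanishes. -/
def normOK (M : List ℕ) : Bool := (nsum M 13).all fun r => Nat.beq (red r) 0

attribute [local irreducible] pack nsum in
theorem sum_pow_eq_zero {A : M12} (h : normOK (encM A) = true) :
    ∑ l ∈ Finset.range 13, A ^ l = 0 := by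
  ext i j
  rw [normOK, nsum_encM, List.all_eq_true] at h
  have h1 := h _ (List.mem_ofFn.mpr ⟨i, rfl⟩)
  rw [Nat.beq_eq, red_pack] at h1
  · have h2 := pack_injective (v := fun j => (∑ l ∈ Finset.range 13, ((A ^ l) i j).val) % 5)
      (w := fun _ => 0) (fun _ => (Nat.mod_lt _ (by norm_num)).trans (by norm_num))
      (fun _ => by norm_num) (h1.trans (by simp [pack_eq_sum]))
    have h3 := congrArg (fun n : ℕ => (n : ZMod 5)) (congrFun h2 j)
    simp only [ZMod.natCast_mod, Nat.cast_sum, ZMod.natCast_val, ZMod.cast_id, Nat.cast_zero] at h3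
    rw [Matrix.sum_apply]
    exact h3
  · intro k
    have h2 := Finset.sum_le_card_nsmul (Finset.range 13) (fun l => ((A ^ l) i k).val) 4
      fun l _ => Nat.le_of_lt_succ (ZMod.val_lt ((A ^ l) i k))
    rw [Finset.card_range, smul_eq_mul] at h2
    omega

end Cfsg.Lib.U34
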