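import Cfsg.Agent.Lib.U34.Data

/-!
# Kernel checks of the certificate for the representation of U3(4)
-/

set_option autoImplicit false
set_option maxHeartbeats 0
set_option maxRecDepth 4000

namespace Cfsg.Lib.U34

/-- Decode a packed matrix. -/
def dec (M : List ℕ) : M12 :=
  Matrix.of fun i j =>
    (Nat.land (Nat.shiftRight (M.getD i.val 0) (Nat.mul 16 j.val)) 65535 : ZMod 5)

/-- The packed matrix is in canonical form. -/
def canon (M : List ℕ) : Bool := beq (encM (dec M)) M

/-- The `n`-th subgroup element. -/
def hP (n : ℕ) : List ℕ := tget one hMTab n

/-- The `i`-th coset representative. -/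
def tP (i : ℕ) : List ℕ := tget one tMTab i

/-- The `k`-th double coset representative. -/
def kP (k : ℕ) : List ℕ := tget one kMTab k

theorem canon_gens : (canon gx && (canon gy && (canon ga && canon gb))) = true := by decide +kernel

theorem hP_canon : (List.range 960).all (fun n => canon (hP n)) = true := by decide +kernel

theorem tP_canon : (List.range 65).all (fun n => canon (tP n)) = true := by decide +kernel

theorem kP_canon : (List.range 2).all (fun n => canon (kP n)) = true := by decide +kernel

theorem zero_checks : (beq (hP 0) one && beq (tP 0) one) = true := by decide +kernel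

theorem gens_invertible : (beq (pw gx 13) one && (beq (pw gy 2) one &&
    (beq (pw ga genOrd.1) one && beq (pw gb genOrd.2) one))) = true := by decide +kernel

/-- The parent relation at `n`. -/
def parOK (n : ℕ) : Bool :=
  Nat.blt (Nat.div (tget 0 hParTab n) 2) n &&
    beq (hP n) (mul (if Nat.beq (Nat.mod (tget 0 hParTab n) 2) 0 then ga else gb)
      (hP (Nat.div (tget 0 hParTab n) 2)))

theorem parents_ok : (List.range 959).all (fun n => parOK (n + 1)) = true := by decide +kernel

/-- Closure under a subgroup generator at `n`. -/
def clOK (g : List ℕ) (tab : List (List ℕ)) (n : ℕ) : Bool :=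
  Nat.blt (tget 0 tab n) 960 && beq (mul g (hP n)) (hP (tget 0 tab n))

theorem closed_left_a : (List.range 960).all (clOK ga hClATab) = true := by decide +kernel

theorem closed_left_b : (List.range 960).all (clOK gb hClBTab) = true := by decide +kernel

/-- The coset product relation for one generator. -/
def cosetOK (s : List ℕ) (tab : List (List (ℕ × ℕ))) (i : ℕ) : Bool :=
  Nat.blt (tget (0, 0) tab i).1 65 && (Nat.blt (tget (0, 0) tab i).2 960 &&
    beq (mul s (tP i)) (mul (tP (tget (0, 0) tab i).1) (hP (tget (0, 0) tab i).2)))

theorem coset_x : (List.range 65).all (cosetOK gx tXTab) = true := by decide +kernel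

theorem coset_y : (List.range 65).all (cosetOK gy tYTab) = true := by decide +kernel

/-- The double coset decomposition at `i`. -/
def dcOK (i : ℕ) : Bool :=
  Nat.blt (tget (0, 0, 0) tDCTab i).1 960 && (Nat.blt (tget (0, 0, 0) tDCTab i).2.1 2 &&
    (Nat.blt (tget (0, 0, 0) tDCTab i).2.2 960 &&
      beq (mul (mul (hP (tget (0, 0, 0) tDCTab i).1) (kP (tget (0, 0, 0) tDCTab i).2.1))
        (hP (tget (0, 0, 0) tDCTab i).2.2)) (tP i)))

theorem double_cosets : (List.range 65).all dcOK = true := by decide +kernel

/-- The admissible element orders. -/
def ordList : List ℕ := [1, 2, 3, 4, 5, 10, 13, 15]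

/-- The exponent of a packed matrix, and at order thirteen the vanishing of its norm. -/
def repOK (o : ℕ) (M : List ℕ) : Bool :=
  ordList.contains o && (beq (pw M o) one && (!Nat.beq o 13 || normOK M))

/-- The check at a pair of double coset and subgroup element. -/
def ordOK (tab : List (List ℕ)) (k n : ℕ) : Bool := repOK (tget 0 tab n) (mul (kP k) (hP n))

theorem orders_zero : (List.range 960).all (ordOK ord0xTab 0) = true := by decide +kernel

theorem orders_one : (List.range 960).all (ordOK ord1xTab 1) = true := by decide +kernel

/-- The packed matrix of a word in the generators. -/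
def wordP : List Bool → List ℕ
  | [] => one
  | b :: w => mul (if b then gy else gx) (wordP w)

/-- The word has exactly the given order. -/
def exOK (n : ℕ) (w : List Bool) : Bool :=
  beq (pw (wordP w) n) one &&
    (List.range n).all (fun m => Nat.beq m 0 || !(beq (pw (wordP w) m) one))

theorem examples_ok : (exOK 10 word10 && (exOK 13 word13 && exOK 15 word15)) = true := by
  decide +kernel

end Cfsg.Lib.U34
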