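import Cfsg.Agent.Lib.U34.Check

/-!
# The element orders and fixed points of the matrix group modulo 5
-/

set_option autoImplicit false

namespace Cfsg.Lib.U34

attribute [local irreducible] dec encM pw mul one hP tP kP canon tget gx gy ga gb beq combAux normOK

/-- The matrices in the tabulated subgroup. -/
def hM' (n : ℕ) : M12 := dec (hP n)

/-- The tabulated coset representatives as matrices. -/
def tM' (i : ℕ) : M12 := dec (tP i)

/-- The tabulated double coset representatives as matrices. -/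
def kM' (k : ℕ) : M12 := dec (kP k)

theorem all_range {n : ℕ} {f : ℕ → Bool} (h : (List.range n).all f = true) {i : ℕ} (hi : i < n) :
    f i = true :=
  List.all_eq_true.mp h i (List.mem_range.mpr hi)

theorem encM_dec {M : List ℕ} (h : canon M = true) : encM (dec M) = M := by unfold canon at h; exact beq_iff.mp h

theorem encM_hM' {n : ℕ} (hn : n < 960) : encM (hM' n) = hP n := encM_dec (all_range hP_canon hn)

theorem encM_tM' {i : ℕ} (hi : i < 65) : encM (tM' i) = tP i := encM_dec (all_range tP_canon hi)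

theorem encM_kM' {k : ℕ} (hk : k < 2) : encM (kM' k) = kP k := encM_dec (all_range kP_canon hk)

theorem gens_facts : canon gx = true ∧ canon gy = true ∧ canon ga = true ∧ canon gb = true ∧
    pw gx 13 = one ∧ pw gy 2 = one ∧ pw ga genOrd.1 = one ∧ pw gb genOrd.2 = one := by
  have h := canon_gens
  have h' := gens_invertible
  simp only [Bool.and_eq_true, beq_iff] at h h'
  exact ⟨h.1, h.2.1, h.2.2.1, h.2.2.2, h'⟩

theorem zero_facts : hP 0 = one ∧ tP 0 = one := by
  simpa only [Bool.and_eq_true, beq_iff] using zero_checks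

theorem dec_pow_eq_one {M : List ℕ} (hc : canon M = true) {n : ℕ} (h : pw M n = one) :
    dec M ^ n = 1 :=
  encM_injective (by rw [encM_pow, encM_dec hc, h, encM_one])

theorem hM'_zero : hM' 0 = 1 :=
  encM_injective (by rw [encM_hM' (by norm_num), encM_one, zero_facts.1])

theorem tM'_zero : tM' 0 = 1 :=
  encM_injective (by rw [encM_tM' (by norm_num), encM_one, zero_facts.2])

/-- The tabulated subgroup as a set of matrices. -/
def hSet : Set (M12) := {A | ∃ n < 960, A = hM' n}

theorem exists_parent {n : ℕ} (hn : n + 1 < 960) :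
    ∃ p ≤ n, hM' (n + 1) = dec ga * hM' p ∨ hM' (n + 1) = dec gb * hM' p := by
  obtain ⟨_, _, ca, cb, _⟩ := gens_facts
  have h := all_range parents_ok (show n < 959 by omega)
  simp only [parOK, Bool.and_eq_true, Nat.blt_eq] at h
  refine ⟨Nat.div (tget 0 hParTab (n + 1)) 2, by omega, ?_⟩
  have hp : Nat.div (tget 0 hParTab (n + 1)) 2 < 960 := by omega
  have h2 := beq_iff.mp h.2
  split at h2
  · left
    exact encM_injective (by rw [encM_mul, encM_hM' hn, encM_hM' hp, encM_dec ca]; exact h2)
  · right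
    exact encM_injective (by rw [encM_mul, encM_hM' hn, encM_hM' hp, encM_dec cb]; exact h2)

theorem mul_left {g : List ℕ} {tab : List (List ℕ)} (hg : canon g = true)
    (hc : (List.range 960).all (clOK g tab) = true) {A : M12} (hA : A ∈ hSet) :
    dec g * A ∈ hSet := by
  obtain ⟨n, hn, rfl⟩ := hA
  have h := all_range hc hn
  simp only [clOK, Bool.and_eq_true, Nat.blt_eq] at h
  refine ⟨_, h.1, encM_injective ?_⟩
  rw [encM_mul, encM_hM' hn, encM_hM' h.1, encM_dec hg]
  exact beq_iff.mp h.2

theorem gen_inverses : (∃ B, dec ga * B = 1) ∧ ∃ B, dec gb * B = 1 := by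
  obtain ⟨_, _, ca, cb, _, _, oa, ob⟩ := gens_facts
  refine ⟨⟨dec ga ^ (genOrd.1 - 1), ?_⟩, ⟨dec gb ^ (genOrd.2 - 1), ?_⟩⟩
  · rw [← pow_succ', show genOrd.1 - 1 + 1 = genOrd.1 from rfl]
    exact dec_pow_eq_one ca oa
  · rw [← pow_succ', show genOrd.2 - 1 + 1 = genOrd.2 from rfl]
    exact dec_pow_eq_one cb ob

theorem hM'_props : ∀ n, n < 960 → (∀ A ∈ hSet, hM' n * A ∈ hSet) ∧
    ∃ B, hM' n * B = 1 := by
  intro n
  induction n using Nat.strong_induction_on with
  | _ n ih =>
    intro hn
    obtain ⟨_, _, ca, cb, _⟩ := gens_facts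
    rcases n with - | n
    · rw [hM'_zero]
      exact ⟨fun A hA => by rwa [one_mul], 1, one_mul 1⟩
    · obtain ⟨p, hp, hc⟩ := exists_parent hn
      obtain ⟨hclosed, B, hB⟩ := ih p (by omega) (by omega)
      obtain ⟨⟨Ba, hBa⟩, Bb, hBb⟩ := gen_inverses
      rcases hc with hc | hc
      · refine ⟨fun A hA => by rw [hc, mul_assoc]; exact mul_left ca closed_left_a (hclosed A hA),
          B * Ba, ?_⟩
        rw [hc, mul_assoc, ← mul_assoc (hM' p), hB, one_mul, hBa]
      · refine ⟨fun A hA => by rw [hc, mul_assoc]; exact mul_left cb closed_left_b (hclosed A hA),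
          B * Bb, ?_⟩
        rw [hc, mul_assoc, ← mul_assoc (hM' p), hB, one_mul, hBb]

theorem hM'_mul {n m : ℕ} (hn : n < 960) (hm : m < 960) : ∃ l < 960, hM' n * hM' m = hM' l :=
  (hM'_props n hn).1 _ ⟨m, hm, rfl⟩

/-- The generator of order thirteen. -/
def gxU : GL (Fin 12) (ZMod 5) :=
  ⟨dec gx, dec gx ^ 12, by rw [← pow_succ']; exact dec_pow_eq_one gens_facts.1 gens_facts.2.2.2.2.1,
    by rw [← pow_succ]; exact dec_pow_eq_one gens_facts.1 gens_facts.2.2.2.2.1⟩

/-- The involutory generator. -/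
def gyU : GL (Fin 12) (ZMod 5) :=
  ⟨dec gy, dec gy, by rw [← sq]; exact dec_pow_eq_one gens_facts.2.1 gens_facts.2.2.2.2.2.1,
    by rw [← sq]; exact dec_pow_eq_one gens_facts.2.1 gens_facts.2.2.2.2.2.1⟩

/-- The matrix group modulo 5. -/
def grp : Subgroup (GL (Fin 12) (ZMod 5)) := Subgroup.closure {gxU, gyU}

theorem encM_gxU : encM (gxU : M12) = gx := encM_dec gens_facts.1

theorem encM_gyU : encM (gyU : M12) = gy := encM_dec gens_facts.2.1

/-- The union of the tabulated cosets. -/
def cosetSet : Set (M12) :=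
  {A | ∃ i < 65, ∃ n < 960, A = tM' i * hM' n}

theorem cosetSet_closed {g : GL (Fin 12) (ZMod 5)} {tab : List (List (ℕ × ℕ))}
    (hg : (List.range 65).all (cosetOK (encM (g : M12)) tab) = true)
    {A : M12} (hA : A ∈ cosetSet) :
    (g : M12) * A ∈ cosetSet := by
  obtain ⟨i, hi, n, hn, rfl⟩ := hA
  have h := all_range hg hi
  simp only [cosetOK, Bool.and_eq_true, Nat.blt_eq] at h
  have e : (g : M12) * tM' i =
      tM' (tget (0, 0) tab i).1 * hM' (tget (0, 0) tab i).2 := by
    apply encM_injective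
    rw [encM_mul, encM_mul, encM_tM' hi, encM_tM' h.1, encM_hM' h.2.1]
    exact beq_iff.mp h.2.2
  obtain ⟨l, hl, hl'⟩ := hM'_mul h.2.1 hn
  exact ⟨_, h.1, l, hl, by rw [← mul_assoc, e, mul_assoc, hl']⟩

theorem mem_cosetSet {g : GL (Fin 12) (ZMod 5)} (hg : g ∈ grp) :
    (g : M12) ∈ cosetSet := by
  have key : ∀ g ∈ Submonoid.closure ({gxU, gyU} : Set (GL (Fin 12) (ZMod 5))),
      ∀ A ∈ cosetSet, (g : M12) * A ∈ cosetSet := by
    intro g hg
    induction hg using Submonoid.closure_induction with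
    | mem x hx =>
      rcases hx with rfl | rfl
      · exact fun A => cosetSet_closed (by rw [encM_gxU]; exact coset_x)
      · exact fun A => cosetSet_closed (by rw [encM_gyU]; exact coset_y)
    | one => exact fun A hA => by rwa [Units.val_one, one_mul]
    | mul x y _ _ hx hy => exact fun A hA => by rw [Units.val_mul, mul_assoc]; exact hx _ (hy _ hA)
  have hg' : g ∈ Submonoid.closure ({gxU, gyU} : Set (GL (Fin 12) (ZMod 5))) := by
    rw [← Subgroup.closure_toSubmonoid_of_finite]
    exact hg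
  have h := key g hg' 1 ⟨0, by norm_num, 0, by norm_num, by rw [tM'_zero, hM'_zero, one_mul]⟩
  rwa [mul_one] at h

theorem rep_facts {tab : List (List ℕ)} {k n : ℕ} (hk : k < 2) (hn : n < 960)
    (h : ordOK tab k n = true) : ∃ o ∈ ordList, (kM' k * hM' n) ^ o = 1 ∧
      (o = 13 → ∑ l ∈ Finset.range 13, (kM' k * hM' n) ^ l = 0) := by
  have he : encM (kM' k * hM' n) = mul (kP k) (hP n) := by
    rw [encM_mul, encM_kM' hk, encM_hM' hn]
  simp only [ordOK, repOK, Bool.and_eq_true, List.contains_iff_mem] at h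
  refine ⟨_, h.1, encM_injective ?_, fun ho => sum_pow_eq_zero ?_⟩
  · rw [encM_pow, he, encM_one]
    exact beq_iff.mp h.2.1
  · have h2 := h.2.2
    rw [ho] at h2
    rw [he]
    simpa using h2

theorem exists_pow_rep {k n : ℕ} (hk : k < 2) (hn : n < 960) :
    ∃ o ∈ ordList, (kM' k * hM' n) ^ o = 1 ∧
      (o = 13 → ∑ l ∈ Finset.range 13, (kM' k * hM' n) ^ l = 0) := by
  interval_cases k
  · exact rep_facts (by norm_num) hn (all_range orders_zero hn)
  · exact rep_facts (by norm_num) hn (all_range orders_one hn)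

/-- The matrix of an element of the group. -/
def mat (g : grp) : M12 := ((g : GL (Fin 12) (ZMod 5)) : M12)

theorem mat_injective : Function.Injective mat := fun _ _ h => Subtype.ext (Units.ext h)

theorem mat_pow (g : grp) (n : ℕ) : mat (g ^ n) = mat g ^ n := by simp [mat]

theorem mat_one : mat 1 = 1 := by simp [mat]

theorem exists_order_norm (g : grp) : ∃ o ∈ ordList, g ^ o = 1 ∧
    (o = 13 → ∑ l ∈ Finset.range 13, mat g ^ l = 0) := by
  obtain ⟨i, hi, n, hn, hg⟩ := mem_cosetSet g.2
  have h := all_range double_cosets hi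
  simp only [dcOK, Bool.and_eq_true, Nat.blt_eq] at h
  set a := (tget (0, 0, 0) tDCTab i).1
  set k := (tget (0, 0, 0) tDCTab i).2.1
  set b := (tget (0, 0, 0) tDCTab i).2.2
  have ht : hM' a * kM' k * hM' b = tM' i := by
    apply encM_injective
    rw [encM_mul, encM_mul, encM_hM' h.1, encM_kM' h.2.1, encM_hM' h.2.2.1, encM_tM' hi]
    exact beq_iff.mp h.2.2.2
  obtain ⟨m, hm, hm'⟩ := hM'_mul h.2.2.1 hn
  obtain ⟨l, hl, hl'⟩ := hM'_mul hm h.1
  have hg' : mat g * hM' a = hM' a * (kM' k * hM' l) := by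
    show (g : GL (Fin 12) (ZMod 5)).val * _ = _
    rw [hg, ← ht, ← hl', ← hm']
    simp only [mul_assoc]
  obtain ⟨o, ho, ho', hnorm⟩ := exists_pow_rep h.2.1 hl
  have hpow : SemiconjBy (hM' a) (kM' k * hM' l) (mat g) := hg'.symm
  obtain ⟨B, hB⟩ := (hM'_props a h.1).2
  have cancel : ∀ A C : M12, A * hM' a = C * hM' a → A = C := fun A C e => by
    simpa only [mul_assoc, hB, mul_one] using congrArg (· * B) e
  refine ⟨o, ho, mat_injective ?_, fun e => cancel _ _ ?_⟩
  · rw [mat_pow, mat_one]
    refine cancel _ _ ?_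
    rw [← (hpow.pow_right o).eq, ho', mul_one, one_mul]
  · rw [Finset.sum_mul, zero_mul, Finset.sum_congr rfl fun j _ => ((hpow.pow_right j).eq).symm,
      ← Finset.mul_sum, hnorm e, mul_zero]

/-- Every element order is one of eight numbers. -/
theorem orderOf_mem (g : grp) : orderOf g ∈ ordList := by
  obtain ⟨o, ho, h3, -⟩ := exists_order_norm g
  have hd := Nat.mem_divisors.mpr ⟨orderOf_dvd_of_pow_eq_one h3, (by
    intro h0; subst h0; exact absurd ho (by decide))⟩
  revert hd
  generalize orderOf g = d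
  revert d
  fin_cases ho <;> decide

/-- Elements of order thirteen fix only zero. -/
theorem sum_pow_of_orderOf_thirteen (g : grp) (hg : orderOf g = 13) :
    ∑ l ∈ Finset.range 13, mat g ^ l = 0 := by
  obtain ⟨o, ho, h3, hn⟩ := exists_order_norm g
  refine hn ?_
  have hd := orderOf_dvd_of_pow_eq_one h3
  rw [hg] at hd
  revert hd
  fin_cases ho <;> decide

/-- A word in the generators as an element of the group. -/
def wordG : List Bool → grp
  | [] => 1
  | b :: w => (if b then ⟨gyU, Subgroup.subset_closure (Or.inr rfl)⟩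
      else ⟨gxU, Subgroup.subset_closure (Or.inl rfl)⟩) * wordG w

theorem encM_wordG : ∀ w, encM (mat (wordG w)) = wordP w
  | [] => by rw [wordG, mat_one, encM_one]; rfl
  | b :: w => by
      have hm : ∀ g h : grp, mat (g * h) = mat g * mat h := fun g h => by simp [mat]
      cases b <;>
        simp only [wordG, wordP, hm, encM_mul, encM_wordG w, if_true, Bool.false_eq_true,
          if_false] <;>
        first | rw [← encM_gyU]; rfl | rw [← encM_gxU]; rfl

theorem orderOf_wordG {n : ℕ} (hn : 0 < n) {w : List Bool} (h : exOK n w = true) :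
    orderOf (wordG w) = n := by
  simp only [exOK, Bool.and_eq_true] at h
  have key : ∀ m, wordG w ^ m = 1 ↔ beq (pw (wordP w) m) one = true := fun m => by
    rw [beq_iff, ← encM_wordG, ← encM_pow, ← encM_one, encM_injective.eq_iff, ← mat_pow, ← mat_one,
      mat_injective.eq_iff]
  refine (orderOf_eq_iff hn).mpr ⟨(key n).mpr h.1, fun m hm hm0 hc => ?_⟩
  have h2 := all_range h.2 hm
  rw [(key m).mp hc] at h2
  simp at h2
  omega

theorem exists_orderOf_large : (∃ g : grp, orderOf g = 10) ∧ (∃ g : grp, orderOf g = 13) ∧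
    ∃ g : grp, orderOf g = 15 := by
  have h := examples_ok
  simp only [Bool.and_eq_true] at h
  exact ⟨⟨_, orderOf_wordG (by norm_num) h.1⟩, ⟨_, orderOf_wordG (by norm_num) h.2.1⟩,
    ⟨_, orderOf_wordG (by norm_num) h.2.2⟩⟩

end Cfsg.Lib.U34
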